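import Mathlib
import Cfsg.Agent.Lib.Helper48.Hig.Act

/-!
# HIG-[PAIR] (helper48's sheet HIG_MODULES.md, S3050), hypothesis form (helper50)

An equivariant alternating bilinear pairing `γ : A × A → Z` between `SL(2,F)`-modules of exponent 2 with
`V0 = ⊤` is trivial.  The three facts used from the modules HIG-[V0INV] and HIG-[FIXEXP] (`uu_ww_fix`, `hh_add_fix`,
`fix_inf_ww`) are hypotheses here.
-/

set_option autoImplicit false

namespace Cfsg.Agent.Lib.Helper50.Hig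

open Matrix Matrix.SpecialLinearGroup
open scoped MatrixGroups
open Cfsg.Agent.Lib.Helper19.NatSL2
open Cfsg.Agent.Lib.Helper48.Hig

variable {F : Type*} [Field F] [CharP F 2]

theorem pairing_trivial_of {A Z : Type*} [CommGroup A] [CommGroup Z]
    (φA : SL(2, F) →* MulAut A) (φZ : SL(2, F) →* MulAut Z)
    (hA1 : ∀ (c : Fˣ) (w : A), w ∈ fixU φA →
      φA (uu (c : F)) (φA ww w) = (φA (hh c) w)⁻¹ * (φA ww w)⁻¹)
    (hZ1 : ∀ (c : Fˣ) (w : Z), w ∈ fixU φZ →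
      φZ (uu (c : F)) (φZ ww w) = (φZ (hh c) w)⁻¹ * (φZ ww w)⁻¹)
    (hZ2 : ∀ (a b c : Fˣ), (a : F) + b = c → ∀ w ∈ fixU φZ, φZ (hh c) w = φZ (hh a) w * φZ (hh b) w)
    (hZ3 : ∀ m : Z, m ∈ fixU φZ → φZ ww m ∈ fixU φZ → m = 1)
    (hF : ∃ b : F, b ≠ 0 ∧ b ≠ 1)
    (hAexp : ∀ a : A, a * a = 1) (hA : V0 φA = ⊤) (hZexp : ∀ z : Z, z * z = 1) (hZ : V0 φZ = ⊤)
    (γ : A → A → Z) (hl : ∀ a b c, γ (a * b) c = γ a c * γ b c)
    (hr : ∀ a b c, γ a (b * c) = γ a b * γ a c) (halt : ∀ a, γ a a = 1)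
    (heq : ∀ g a b, γ (φA g a) (φA g b) = φZ g (γ a b)) (a b : A) : γ a b = 1 := by
  have hAinv : ∀ a : A, a⁻¹ = a := fun a => inv_eq_of_mul_eq_one_left (hAexp a)
  have hZinv : ∀ z : Z, z⁻¹ = z := fun z => inv_eq_of_mul_eq_one_left (hZexp z)
  have hwwA : ∀ a : A, φA ww (φA ww a) = a := by
    intro a
    rw [← phi_mul, ww_mul_ww, map_one, MulAut.one_apply]
  have hwwZ : ∀ z : Z, φZ ww (φZ ww z) = z := by
    intro z
    rw [← phi_mul, ww_mul_ww, map_one, MulAut.one_apply]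
  -- symmetry
  have hsymm : ∀ a b : A, γ a b = γ b a := by
    intro a b
    have h := halt (a * b)
    rw [hl, hr, hr, halt, halt, one_mul, mul_one] at h
    rw [← hZinv (γ b a)]
    exact eq_inv_of_mul_eq_one_left h
  -- step 1
  have step1 : ∀ w1 ∈ fixU φA, ∀ w2 ∈ fixU φA,
      γ w1 w2 ∈ fixU φZ ∧ (∀ b : Fˣ, γ w1 (φA (hh b) w2) = φZ (hh b) (γ w1 w2)) ∧
        ∃ z₁ ∈ fixU φZ, γ w1 (φA ww w2) = z₁ * φZ ww (γ w1 w2) := by
    intro w1 hw1 w2 hw2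
    have hmem : γ w1 (φA ww w2) ∈ V0 φZ := by rw [hZ]; trivial
    obtain ⟨z₁, hz₁, z₂, hz₂, hz⟩ := (mem_V0 φZ).mp hmem
    have key : ∀ b : Fˣ, γ w1 (φA (hh b) w2) = φZ (hh b) z₂ := by
      intro b
      have h1 : φZ (uu (b : F)) (γ w1 (φA ww w2)) =
          γ w1 (φA (hh b) w2) * γ w1 (φA ww w2) := by
        rw [← heq, (mem_fixU φA).mp hw1, hA1 b w2 hw2, hAinv, hAinv, hr]
      have h2 : φZ (uu (b : F)) (γ w1 (φA ww w2)) = z₁ * (φZ (hh b) z₂ * φZ ww z₂) := by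
        rw [hz, map_mul, (mem_fixU φZ).mp hz₁, hZ1 b z₂ hz₂, hZinv, hZinv]
      rw [h1, hz] at h2
      have h3 : (z₁ * φZ ww z₂) * γ w1 (φA (hh b) w2) = (z₁ * φZ ww z₂) * φZ (hh b) z₂ := by
        rw [mul_comm, h2]
        rw [mul_comm (φZ (hh b) z₂), mul_assoc]
      exact mul_left_cancel h3
    have hz₂eq : γ w1 w2 = z₂ := by
      have := key 1
      rwa [hh_one, map_one, MulAut.one_apply, map_one, MulAut.one_apply] at this
    refine ⟨hz₂eq ▸ hz₂, ?_, z₁, hz₁, ?_⟩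
    · intro b; rw [key b, hz₂eq]
    · rw [hz, hz₂eq]
  -- step 3: the pairing is trivial on `W × W`
  have step3 : ∀ w1 ∈ fixU φA, ∀ w2 ∈ fixU φA, γ w1 w2 = 1 := by
    intro w1 hw1 w2 hw2
    have hfix : ∀ b : Fˣ, φZ (hh b) (γ w1 w2) = γ w1 w2 := by
      intro b
      have e1 : φZ (hh b) (γ w1 w2) = γ (φA (hh b) w1) (φA (hh b) w2) := (heq _ _ _).symm
      have e2 := (step1 _ (fixU_hh φA hw1 b) w2 hw2).2.1 b
      have e3 : γ (φA (hh b) w1) w2 = φZ (hh b) (γ w1 w2) := by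
        rw [hsymm, (step1 w2 hw2 w1 hw1).2.1 b, hsymm]
      rw [e2, e3] at e1
      exact ((φZ (hh b)).injective e1).symm
    obtain ⟨b₀, hb0, hb1⟩ := hF
    have hb2 : b₀ + 1 ≠ 0 := by
      intro h
      apply hb1
      have : b₀ = -1 := eq_neg_of_add_eq_zero_left h
      rw [this, CharTwo.neg_eq]
    have hsum := hZ2 (Units.mk0 b₀ hb0) 1 (Units.mk0 (b₀ + 1) hb2) (by simp) (γ w1 w2)
      (step1 w1 hw1 w2 hw2).1
    rw [hfix, hfix, hfix, hZexp] at hsum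
    exact hsum
  -- step 4: mixed terms
  have hmix : ∀ w1 ∈ fixU φA, ∀ w2 ∈ fixU φA, γ w1 (φA ww w2) ∈ fixU φZ := by
    intro w1 hw1 w2 hw2
    obtain ⟨z₁, hz₁, hz⟩ := (step1 w1 hw1 w2 hw2).2.2
    rw [hz, step3 w1 hw1 w2 hw2, map_one, mul_one]
    exact hz₁
  have step4 : ∀ w1 ∈ fixU φA, ∀ w2 ∈ fixU φA, γ w1 (φA ww w2) = 1 := by
    intro w1 hw1 w2 hw2
    apply hZ3 _ (hmix w1 hw1 w2 hw2)
    rw [← heq, hwwA, hsymm]
    exact hmix w2 hw2 w1 hw1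
  have step5 : ∀ w1 ∈ fixU φA, ∀ w2 ∈ fixU φA, γ (φA ww w1) (φA ww w2) = 1 := by
    intro w1 hw1 w2 hw2
    rw [heq, step3 w1 hw1 w2 hw2, map_one]
  -- assembly
  have ha : a ∈ V0 φA := by rw [hA]; trivial
  have hb : b ∈ V0 φA := by rw [hA]; trivial
  obtain ⟨a1, ha1, a2, ha2, rfl⟩ := (mem_V0 φA).mp ha
  obtain ⟨b1, hb1, b2, hb2, rfl⟩ := (mem_V0 φA).mp hb
  rw [hl, hr, hr, step3 a1 ha1 b1 hb1, step4 a1 ha1 b2 hb2, step5 a2 ha2 b2 hb2,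
    hsymm (φA ww a2) b1, step4 b1 hb1 a2 ha2]
  simp

end Cfsg.Agent.Lib.Helper50.Hig
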