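import Mathlib
import Cfsg.Agent.Lib.Helper48.Hig.Act

/-!
# HIG-[FIXEXP] (helper48's sheet HIG_MODULES.md, S3050), hypothesis form (helper50, hedge)

`fixU_sq` and `hh_add_fix` from the two facts `uu_ww_fix`, `fix_inf_ww` of HIG-[V0INV] (hypotheses here).
-/

set_option autoImplicit false
set_option linter.unusedSectionVars false

namespace Cfsg.Agent.Lib.Helper50.Hig

open Matrix Matrix.SpecialLinearGroup
open scoped MatrixGroups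
open Cfsg.Agent.Lib.Helper19.NatSL2
open Cfsg.Agent.Lib.Helper48.Hig

variable {F : Type*} [Field F] [CharP F 2] {M : Type*} [CommGroup M] (φ : SL(2, F) →* MulAut M)

/-- the basic relation: for units `a + b = c` and `w ∈ W`:
`(ww w)² = (h_c w)⁻¹ · h_b w · (h_a w)⁻¹`. -/
theorem ww_sq_eq_of
    (h1 : ∀ (c : Fˣ) (w : M), w ∈ fixU φ → φ (uu (c : F)) (φ ww w) = (φ (hh c) w)⁻¹ * (φ ww w)⁻¹)
    (a b c : Fˣ) (hab : (a : F) + b = c) {w : M} (hw : w ∈ fixU φ) :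
    φ ww w * φ ww w = (φ (hh c) w)⁻¹ * φ (hh b) w * (φ (hh a) w)⁻¹ := by
  have e1 : φ (uu ((a : F) + b)) (φ ww w) = (φ (hh b) w)⁻¹ * (φ (hh a) w * φ ww w) := by
    rw [uu_add, phi_mul, h1 b w hw, map_mul, map_inv, map_inv, h1 a w hw, mul_inv, inv_inv, inv_inv,
      (mem_fixU φ).mp (fixU_hh φ hw b)]
  rw [hab, h1 c w hw] at e1
  -- (h_c w)⁻¹ * n⁻¹ = (h_b w)⁻¹ * (h_a w * n)
  have e2 : (φ (hh c) w)⁻¹ = (φ (hh b) w)⁻¹ * (φ (hh a) w * φ ww w) * φ ww w := by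
    rw [← e1, inv_mul_cancel_right]
  rw [e2]
  have e3 : (φ (hh b) w)⁻¹ * (φ (hh a) w * φ ww w) * φ ww w * φ (hh b) w * (φ (hh a) w)⁻¹
      = ((φ (hh b) w)⁻¹ * φ (hh b) w) * (φ (hh a) w * (φ (hh a) w)⁻¹) * (φ ww w * φ ww w) := by
    ac_rfl
  rw [e3, inv_mul_cancel, mul_inv_cancel, one_mul, one_mul]

theorem fixU_sq_of
    (h1 : ∀ (c : Fˣ) (w : M), w ∈ fixU φ → φ (uu (c : F)) (φ ww w) = (φ (hh c) w)⁻¹ * (φ ww w)⁻¹)
    (h2 : ∀ m : M, m ∈ fixU φ → φ ww m ∈ fixU φ → m = 1)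
    (hF : ∃ a b : F, a ≠ 0 ∧ b ≠ 0 ∧ a + b ≠ 0) {w : M} (hw : w ∈ fixU φ) :
    w * w = 1 := by
  obtain ⟨a, b, ha, hb, hab⟩ := hF
  have e := ww_sq_eq_of φ h1 (Units.mk0 a ha) (Units.mk0 b hb) (Units.mk0 (a + b) hab) (by simp) hw
  apply h2 _ (mul_mem hw hw)
  rw [map_mul, e]
  exact mul_mem (mul_mem (inv_mem (fixU_hh φ hw _)) (fixU_hh φ hw _)) (inv_mem (fixU_hh φ hw _))

theorem hh_add_fix_of
    (h1 : ∀ (c : Fˣ) (w : M), w ∈ fixU φ → φ (uu (c : F)) (φ ww w) = (φ (hh c) w)⁻¹ * (φ ww w)⁻¹)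
    (h2 : ∀ m : M, m ∈ fixU φ → φ ww m ∈ fixU φ → m = 1)
    (a b c : Fˣ) (hab : (a : F) + b = c) {w : M} (hw : w ∈ fixU φ) :
    φ (hh c) w = φ (hh a) w * φ (hh b) w := by
  have hF : ∃ a b : F, a ≠ 0 ∧ b ≠ 0 ∧ a + b ≠ 0 :=
    ⟨a, b, a.ne_zero, b.ne_zero, by rw [hab]; exact c.ne_zero⟩
  have hsq : ∀ v ∈ fixU φ, v * v = 1 := fun v hv => fixU_sq_of φ h1 h2 hF hv
  have hinv : ∀ v ∈ fixU φ, v⁻¹ = v := fun v hv => inv_eq_of_mul_eq_one_left (hsq v hv)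
  have e := ww_sq_eq_of φ h1 a b c hab hw
  rw [← map_mul, hsq w hw, map_one, hinv _ (fixU_hh φ hw a)] at e
  -- 1 = (h_c w)⁻¹ * h_b w * h_a w
  have e' : φ (hh c) w * 1 = φ (hh c) w * ((φ (hh c) w)⁻¹ * φ (hh b) w * φ (hh a) w) := by rw [← e]
  rw [mul_one, mul_assoc, mul_inv_cancel_left] at e'
  rw [e', mul_comm]

end Cfsg.Agent.Lib.Helper50.Hig
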