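import Mathlib
import Cfsg.Agent.Lib.Helper50.Hig.PairOf
import Cfsg.Agent.Lib.Helper51.HigV0Inv
import Cfsg.Agent.Lib.Helper51.HigFixExp

/-!
# HIG-[PAIR] (helper48's sheet HIG_MODULES.md, S3050): exact statement (helper50)
-/

set_option autoImplicit false

namespace Cfsg.Agent.Lib.Helper50.Hig

open Matrix Matrix.SpecialLinearGroup
open scoped MatrixGroups
open Cfsg.Agent.Lib.Helper19.NatSL2
open Cfsg.Agent.Lib.Helper48.Hig

variable {F : Type*} [Field F] [CharP F 2]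

theorem pairing_trivial {A Z : Type*} [CommGroup A] [CommGroup Z]
    (φA : SL(2, F) →* MulAut A) (φZ : SL(2, F) →* MulAut Z)
    (hfA : FPF φA) (hfZ : FPF φZ) (hF : ∃ b : F, b ≠ 0 ∧ b ≠ 1)
    (hAexp : ∀ a : A, a * a = 1) (hA : V0 φA = ⊤) (hZexp : ∀ z : Z, z * z = 1) (hZ : V0 φZ = ⊤)
    (γ : A → A → Z) (hl : ∀ a b c, γ (a * b) c = γ a c * γ b c)
    (hr : ∀ a b c, γ a (b * c) = γ a b * γ a c) (halt : ∀ a, γ a a = 1)
    (heq : ∀ g a b, γ (φA g a) (φA g b) = φZ g (γ a b)) (a b : A) : γ a b = 1 :=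
  pairing_trivial_of φA φZ
    (fun c _ hw => Cfsg.Agent.Lib.Helper51.Hig.uu_ww_fix φA hfA c hw)
    (fun c _ hw => Cfsg.Agent.Lib.Helper51.Hig.uu_ww_fix φZ hfZ c hw)
    (fun a b c hab _ hw => Cfsg.Agent.Lib.Helper51.Hig.hh_add_fix φZ hfZ a b c hab hw)
    (fun _ h1 h2 => Cfsg.Agent.Lib.Helper51.Hig.fix_inf_ww φZ hfZ h1 h2)
    hF hAexp hA hZexp hZ γ hl hr halt heq a b

end Cfsg.Agent.Lib.Helper50.Hig
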